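import Cfsg.Agent.R2.GEO.Main

/-!
# Totally singular 5-spaces; fixed vectors (R2/GEO, helper17)

* `exists_sub_five` (G4) : a stable totally singular 5-space of one module gives a stable subspace of dimension 1 or 2
  of the other module;
* `fixed_of_four`, `fixed_of_five` : non-zero fixed vectors, if all homomorphisms `A →* GL (Fin 2) F` are trivial;
* `finrank_le_six` (G2).
-/

set_option autoImplicit false

namespace Cfsg.Agent.R2.GEO

open Cfsg.Lie Module
open Cfsg.Agent.ChevalleyStructure Cfsg.Agent.ChevalleyStructure.E6Form.Cubic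
  Cfsg.Agent.ChevalleyStructure.E6Form.Table Cfsg.Agent.ChevalleyStructure.E6Form.Elim
open Cfsg.Agent.ChevalleyStructure.E6Min.Basic (Zgrp zM zU)
open Cfsg.Agent.H203.E6
open Cfsg.Agent.H952.F4 (sh cr tf)
open Cfsg.Agent.H952.F4.Jord
open Cfsg.Agent.H163.E6 (V V' V_apply V'_apply)
open Cfsg.Agent.H163.E6.Act
open scoped Matrix

universe u v

variable {F : Type u} [Field F]

/-- **(G2)** -/
theorem finrank_le_six {W : Submodule F (I27 → F)} (hW : ∀ w ∈ W, sh w = 0) : finrank F W ≤ 6 :=
  Cfsg.Agent.H203.E6.finrank_le_six fun w hw => (singular_iff w).2 (hW w hw)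

/-- the subspace `{y | ∀ x ∈ W, ∀ z, y × (x × z) ∈ W}` of the other module -/
def Uc (W : Submodule F (I27 → F)) : Submodule F (I27 → F) where
  carrier := {y | ∀ x ∈ W, ∀ z, cr y (cr x z) ∈ W}
  add_mem' {y y'} hy hy' x hx z := by rw [cr_add_left]; exact W.add_mem (hy x hx z) (hy' x hx z)
  zero_mem' x _ z := by
    have h := cr_smul_left (0 : F) (0 : I27 → F) (cr x z)
    rw [zero_smul, zero_smul] at h
    rw [h]
    exact W.zero_mem
  smul_mem' c y hy x hx z := by rw [cr_smul_left]; exact W.smul_mem c (hy x hx z)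

theorem mem_Uc {W : Submodule F (I27 → F)} {y : I27 → F} : y ∈ Uc W ↔ ∀ x ∈ W, ∀ z, cr y (cr x z) ∈ W := Iff.rfl

theorem Uc_act (g : ↥(Zgrp F)) {W : Submodule F (I27 → F)} {y : I27 → F} :
    V' F g y ∈ Uc (mp (g : GL I27 F) W) ↔ y ∈ Uc W := by
  rw [mem_Uc, mem_Uc]
  have key : ∀ x z, cr (V' F g y) (cr (V F g x) (V F g z)) = V F g (cr y (cr x z)) := fun x z => by
    rw [cr_act, cr_act']
  constructor
  · intro h x hx z
    have h1 := h (V F g x) (act_mem_mp hx) (V F g z)
    rw [key, mem_mp] at h1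
    have h2 : act (g : GL I27 F)⁻¹ (V F g (cr y (cr x z))) = cr y (cr x z) := act_inv_act _ _
    rwa [h2] at h1
  · intro h x hx z
    rw [mem_mp] at hx
    have h1 := h _ hx (V F g⁻¹ z)
    have h2 : V F g (act (g : GL I27 F)⁻¹ x) = x := act_act_inv _ _
    have h3 := key (act (g : GL I27 F)⁻¹ x) (V F g⁻¹ z)
    rw [h2, V_apply_inv] at h3
    rw [h3]
    exact act_mem_mp h1

theorem cr_e_apply (y : I27 → F) (s t : I27) : cr y (e F s) t =
    if nc s (du t) = true then ((sg s (du t) : ℤ) : F) * y (th s (du t)) else 0 := by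
  have h := tri_eq_tf y (e F s) (e F (du t))
  rw [tf_e, du_du] at h
  rw [← h, tri_comm12, tri_comm23, tri_e_e]

theorem cr_e_e (l b : I27) : cr (e F l) (e F b) =
    if nc l b = true then ((sg l b : ℤ) : F) • e F (du (th l b)) else 0 := by
  funext t
  have h := tri_eq_tf (e F l) (e F b) (e F (du t))
  rw [tf_e, du_du] at h
  rw [← h, tri_e_e]
  split_ifs with h1
  · rw [Pi.smul_apply, smul_eq_mul]
    congr 1
    by_cases h2 : th l b = du t
    · rw [h2, e_self, du_du, e_self]
    · rw [e_ne h2, e_ne fun h3 => h2 (by rw [h3, du_du])]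
  · rfl

/-- the weights of `Uc (sup L5)` -/
def M2 : List I27 := [(1, 2, 1), (1, 2, 2)]

theorem Uc_L5 : Uc (sup F L5) = sup F M2 := by
  apply le_antisymm
  · intro y hy m hm
    have h := forall_wts (p := fun m => M2.contains m || L5.any fun l => wts.any fun b => nc l b &&
      wts.any fun t => nc (du (th l b)) (du t) && (th (du (th l b)) (du t) == m) && !(L5.contains t))
      (by decide +kernel) m
    rw [Bool.or_eq_true] at h
    rcases h with h | h
    · exact absurd (by simpa using h) hm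
    · rw [List.any_eq_true] at h
      obtain ⟨l, hl, h⟩ := h
      rw [List.any_eq_true] at h
      obtain ⟨b, -, h⟩ := h
      rw [Bool.and_eq_true, List.any_eq_true] at h
      obtain ⟨h1, t, -, h⟩ := h
      rw [Bool.and_eq_true, Bool.and_eq_true, beq_iff_eq] at h
      obtain ⟨⟨h2, h3⟩, h4⟩ := h
      have h5 : t ∉ L5 := by simpa using h4
      have hl5 : e F l ∈ sup F L5 := fun a ha => e_ne fun h => ha (h ▸ hl)
      have h6 := hy (e F l) hl5 (e F b) t h5
      rw [cr_e_e, if_pos h1, cr_smul_right, Pi.smul_apply, smul_eq_mul, cr_e_apply, if_pos h2, h3] at h6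
      exact (mul_eq_zero.1 ((mul_eq_zero.1 h6).resolve_left (sg_ne_zero h1))).resolve_left (sg_ne_zero h2)
  · intro y hy x hx z
    -- expand `x` and `z`
    have hsum : ∀ v : I27 → F, v = ∑ a, v a • e F a := by
      intro v
      funext b
      rw [Finset.sum_apply, Finset.sum_eq_single b]
      · rw [Pi.smul_apply, e_self, smul_eq_mul, mul_one]
      · intro a _ ha
        rw [Pi.smul_apply, e_ne (Ne.symm ha), smul_zero]
      · intro h; exact absurd (Finset.mem_univ _) h
    have hb : ∀ l ∈ L5, ∀ b, cr y (cr (e F l) (e F b)) ∈ sup F L5 := by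
      intro l hl b t ht
      rw [cr_e_e]
      by_cases h1 : nc l b = true
      · rw [if_pos h1, cr_smul_right, Pi.smul_apply, smul_eq_mul, cr_e_apply]
        split_ifs with h2
        · have h3 := forall_wts (List.all_eq_true.1 (show (L5.all fun l => wts.all fun b => !(nc l b) ||
            wts.all fun t => L5.contains t || !(nc (du (th l b)) (du t)) ||
              !(M2.contains (th (du (th l b)) (du t)))) = true by decide +kernel) l hl) b
          rw [h1, Bool.not_true, Bool.false_or] at h3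
          have h4 := forall_wts h3 t
          rw [h2, Bool.not_true, Bool.or_false, Bool.or_eq_true] at h4
          rcases h4 with h4 | h4
          · exact absurd (by simpa using h4) ht
          · rw [hy _ (by simpa using h4), mul_zero, mul_zero]
        · rw [mul_zero]
      · rw [if_neg h1]
        have h2 := cr_smul_right (0 : F) y (0 : I27 → F)
        rw [zero_smul, zero_smul] at h2
        rw [h2]
        rfl
    have h1 : cr y (cr x z) = ∑ a, ∑ b, (x a * z b) • cr y (cr (e F a) (e F b)) := by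
      have e1 : crB F x z = ∑ a, ∑ b, (x a * z b) • crB F (e F a) (e F b) := by
        conv_lhs => rw [hsum x, hsum z]
        simp only [map_sum, map_smul, LinearMap.sum_apply, LinearMap.smul_apply, Finset.smul_sum, smul_smul]
        rw [Finset.sum_comm]
        refine Finset.sum_congr rfl fun a _ => Finset.sum_congr rfl fun b _ => ?_
        rw [mul_comm]
      have e2 : crB F y (crB F x z) = ∑ a, ∑ b, (x a * z b) • crB F y (crB F (e F a) (e F b)) := by
        rw [e1]
        simp only [map_sum, map_smul]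
      exact e2
    rw [h1]
    refine Submodule.sum_mem _ fun a _ => Submodule.sum_mem _ fun b _ => ?_
    by_cases ha : a ∈ L5
    · exact Submodule.smul_mem _ _ (hb a ha b)
    · rw [hx a ha, zero_mul, zero_smul]
      exact Submodule.zero_mem _

theorem finrank_M2 : finrank F (sup F M2) = 2 := by
  refine le_antisymm (finrank_sup_le M2) ?_
  have h := le_finrank_sup (F := F) M2
  have h1 : (wts.filter fun a => !(M2.contains a)).length = 25 := by decide +kernel
  rw [h1] at h
  exact h

/-- the map of the other module -/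
theorem finrank_Uc (g : ↥(Zgrp F)) (W : Submodule F (I27 → F)) :
    finrank F (Uc (mp (g : GL I27 F) W)) = finrank F (Uc W) := by
  have h1 : Uc (mp (g : GL I27 F) W) = (Uc W).map (V' F g) := by
    ext y
    constructor
    · intro h
      refine ⟨V' F g⁻¹ y, ?_, ?_⟩
      · rw [SetLike.mem_coe, ← Uc_act g]
        rwa [← Module.End.mul_apply, ← map_mul, mul_inv_cancel, map_one, Module.End.one_apply]
      · rw [← Module.End.mul_apply, ← map_mul, mul_inv_cancel, map_one, Module.End.one_apply]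
    · rintro ⟨y, hy, rfl⟩
      exact (Uc_act g).2 hy
  rw [h1]
  refine (Submodule.equivMapOfInjective (V' F g) ?_ (Uc W)).finrank_eq.symm
  intro x y hxy
  have h2 := congrArg (V' F g⁻¹) hxy
  rwa [← Module.End.mul_apply, ← Module.End.mul_apply, ← map_mul, inv_mul_cancel, map_one, Module.End.one_apply,
    Module.End.one_apply] at h2

/-- **(G4)** -/
theorem exists_sub_five {A : Type v} [Group A] (hA : commutator A = ⊤) (ψ : A →* ↥(Zgrp F))
    {ρ ρ' : Representation F ↥(Zgrp F) (I27 → F)} (hρ : Pair ρ ρ') {W : Submodule F (I27 → F)}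
    (hst : ∀ a, ∀ w ∈ W, ρ (ψ a) w ∈ W) (h5 : finrank F W = 5) (hW : ∀ w ∈ W, sh w = 0) :
    ∃ U : Submodule F (I27 → F), (finrank F U = 1 ∨ finrank F U = 2) ∧ ∀ a, ∀ u ∈ U, ρ' (ψ a) u ∈ U := by
  obtain ⟨ψ', h1, h2⟩ := hρ.cases ψ
  have hTS : TS W := fun w hw => (singular_iff w).2 (hW w hw)
  have hst' : ∀ a, ∀ w ∈ W, V F (ψ' a) w ∈ W := fun a w hw => by rw [← h1]; exact hst a w hw
  obtain ⟨g, hg, he⟩ := exists_four hTS (by rw [h5]; norm_num)
  rcases le_or_le (hTS.mp hg) he with hle | hle
  · -- inside a six-space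
    have hH := hull_of hA ψ' hg fun a => hull_stab hg he hle (ψ' a).2 (stab_mp ψ' hst' a)
    have hWY : W ≤ mp g⁻¹ (W6 F) := by
      have := mp_mono g⁻¹ hle
      rwa [mp_inv_mp] at this
    obtain ⟨U, h3, h4, -⟩ := hH.dualSub (Or.inl ⟨rfl, rfl⟩) hWY hst'
    exact ⟨U, Or.inl (by omega), fun a => by rw [h2]; exact h4 a⟩
  · -- maximal
    have h6 : mp g W = sup F L5 := Submodule.eq_of_le_of_finrank_eq hle (by rw [finrank_mp, h5, finrank_L5])
    refine ⟨Uc W, Or.inr ?_, ?_⟩
    · have h7 := finrank_Uc (F := F) ⟨g, hg⟩ W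
      change finrank F (Uc (mp g W)) = _ at h7
      rw [← h7, h6, Uc_L5, finrank_M2]
    · intro a u hu
      rw [h2]
      have h7 := (Uc_act (ψ' a)).2 hu
      rwa [stab_mp ψ' hst' a] at h7

/-! ### fixed vectors -/

/-- a perfect group all of whose 2-dimensional representations are trivial acts trivially on stable subspaces of
dimension 1 or 2 -/
theorem trivial_of_dim {A : Type v} [Group A] (hA : commutator A = ⊤) (h2 : ∀ θ : A →* GL (Fin 2) F, ∀ a, θ a = 1)
    (ρ : Representation F A (I27 → F)) {U : Submodule F (I27 → F)} (hst : ∀ a, ∀ u ∈ U, ρ a u ∈ U)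
    (hU : finrank F U = 1 ∨ finrank F U = 2) : ∀ a, ∀ u ∈ U, ρ a u = u := by
  let τ : A →* Module.End F U :=
    { toFun := fun a => (ρ a).restrict (hst a)
      map_one' := by
        ext u
        simp
      map_mul' := fun a b => by
        ext u
        simp }
  have hτ : ∀ a (u : U), ((τ a u : U) : I27 → F) = ρ a u := fun a u => rfl
  have key : ∀ a, τ a = 1 := by
    rcases hU with hU | hU
    · -- commutative
      have hcomm : ∀ f g : Module.End F U, f * g = g * f := by
        obtain ⟨v, hv0, hv⟩ := finrank_eq_one_iff'.1 hU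
        intro f g
        apply LinearMap.ext
        intro w
        obtain ⟨c, rfl⟩ := hv w
        obtain ⟨c1, h3⟩ := hv (f v)
        obtain ⟨c2, h4⟩ := hv (g v)
        rw [Module.End.mul_apply, Module.End.mul_apply, map_smul, map_smul, map_smul, map_smul, ← h3, ← h4, map_smul,
          map_smul, ← h3, ← h4, smul_comm c2 c1]
      have hK : commutator A ≤ (MonoidHom.toHomUnits τ).ker := by
        rw [commutator_def, Subgroup.commutator_le]
        intro a _ b _
        rw [MonoidHom.mem_ker, map_commutatorElement, commutatorElement_eq_one_iff_mul_comm]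
        apply Units.ext
        exact hcomm _ _
      intro a
      have h3 : a ∈ (MonoidHom.toHomUnits τ).ker := hK (hA ▸ Subgroup.mem_top a)
      exact congrArg Units.val (MonoidHom.mem_ker.1 h3)
    · let bs : Basis (Fin 2) F U := Module.finBasisOfFinrankEq F U hU
      let θ : A →* GL (Fin 2) F := MonoidHom.toHomUnits
        (((LinearMap.toMatrixAlgEquiv bs : Module.End F U ≃ₐ[F] _) : Module.End F U →* Matrix (Fin 2) (Fin 2) F).comp τ)
      intro a
      have h3 := congrArg Units.val (h2 θ a)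
      have h4 : LinearMap.toMatrixAlgEquiv bs (τ a) = 1 := h3
      exact (LinearMap.toMatrixAlgEquiv bs).injective (by rw [h4, map_one])
  intro a u hu
  have h3 := hτ a ⟨u, hu⟩
  rw [key a] at h3
  exact h3.symm

theorem exists_fixed {A : Type v} [Group A] (hA : commutator A = ⊤) (h2 : ∀ θ : A →* GL (Fin 2) F, ∀ a, θ a = 1)
    (ρ : Representation F A (I27 → F)) {U : Submodule F (I27 → F)} (hst : ∀ a, ∀ u ∈ U, ρ a u ∈ U)
    (hU : finrank F U = 1 ∨ finrank F U = 2) : ∃ u : I27 → F, u ≠ 0 ∧ ∀ a, ρ a u = u := by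
  have h3 : U ≠ ⊥ := by
    rintro rfl
    rw [finrank_bot] at hU
    omega
  obtain ⟨u, hu, hu0⟩ := Submodule.exists_mem_ne_zero_of_ne_bot h3
  exact ⟨u, hu0, fun a => trivial_of_dim hA h2 ρ hst hU a u hu⟩

/-- **fixed vectors from a totally singular 4-space** -/
theorem fixed_of_four {A : Type v} [Group A] (hA : commutator A = ⊤) (h2 : ∀ θ : A →* GL (Fin 2) F, ∀ a, θ a = 1)
    (ψ : A →* ↥(Zgrp F)) {ρ ρ' : Representation F ↥(Zgrp F) (I27 → F)} (hρ : Pair ρ ρ') {W : Submodule F (I27 → F)}
    (hst : ∀ a, ∀ w ∈ W, ρ (ψ a) w ∈ W) (h4 : finrank F W = 4) (hW : ∀ w ∈ W, sh w = 0) :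
    ∃ u : I27 → F, u ≠ 0 ∧ ∀ a, ρ' (ψ a) u = u := by
  obtain ⟨U, h3, h5⟩ := exists_sub_four hA ψ hρ hst h4 hW
  exact exists_fixed hA h2 (MonoidHom.comp ρ' ψ) h5 (Or.inr h3)

/-- **fixed vectors from a totally singular 5-space** -/
theorem fixed_of_five {A : Type v} [Group A] (hA : commutator A = ⊤) (h2 : ∀ θ : A →* GL (Fin 2) F, ∀ a, θ a = 1)
    (ψ : A →* ↥(Zgrp F)) {ρ ρ' : Representation F ↥(Zgrp F) (I27 → F)} (hρ : Pair ρ ρ') {W : Submodule F (I27 → F)}
    (hst : ∀ a, ∀ w ∈ W, ρ (ψ a) w ∈ W) (h5 : finrank F W = 5) (hW : ∀ w ∈ W, sh w = 0) :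
    ∃ u : I27 → F, u ≠ 0 ∧ ∀ a, ρ' (ψ a) u = u := by
  obtain ⟨U, h3, h4⟩ := exists_sub_five hA ψ hρ hst h5 hW
  exact exists_fixed hA h2 (MonoidHom.comp ρ' ψ) h4 h3

end Cfsg.Agent.R2.GEO
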