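import Cfsg.Agent.H203.E6.Six
import Cfsg.Agent.H333.E6Act
import Cfsg.Agent.H952.F4.Jord

/-!
# The rank of `cr v` on the 27-dimensional module of `E₆`, over any field (R2/GEO, helper17)

`kr v = {z | cr v z = 0}`.

* `finrank_kr_le` : `v ≠ 0 → dim (kr v) ≤ 17`;
* `finrank_kr_white` : `v ≠ 0`, `sh v = 0` → `dim (kr v) = 17`;
* `finrank_kr_gray` : `sh v ≠ 0`, `cubicT v = 0` → `dim (kr v) = 9`.
-/

set_option autoImplicit false

namespace Cfsg.Agent.R2.GEO

open Cfsg.Lie Module
open Cfsg.Agent.ChevalleyStructure Cfsg.Agent.ChevalleyStructure.E6Form.Cubic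
  Cfsg.Agent.ChevalleyStructure.E6Form.Table Cfsg.Agent.ChevalleyStructure.E6Form.Elim
open Cfsg.Agent.ChevalleyStructure.E6Min.Basic (Zgrp zM zU)
open Cfsg.Agent.H203.E6
open Cfsg.Agent.H952.F4 (sh cr tf)
open Cfsg.Agent.H952.F4.Jord

universe u

variable {F : Type u} [Field F]

/-- the bilinear cross -/
noncomputable def crB (F : Type u) [Field F] : (I27 → F) →ₗ[F] (I27 → F) →ₗ[F] (I27 → F) :=
  LinearMap.mk₂ F cr cr_add_left cr_smul_left cr_add_right cr_smul_right

theorem crB_apply (x y : I27 → F) : crB F x y = cr x y := rfl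

/-- the kernel of `cr v` -/
noncomputable def kr (v : I27 → F) : Submodule F (I27 → F) := LinearMap.ker (crB F v)

theorem mem_kr {v z : I27 → F} : z ∈ kr v ↔ cr v z = 0 := by
  unfold kr
  rw [LinearMap.mem_ker, crB_apply]

theorem tri_eq_tf (x y z : I27 → F) : tri x y z = tf (cr x y) z := by
  have h1 := Q_add_left x y z
  rw [Q_eq, Q_eq, Q_eq] at h1
  unfold Cfsg.Agent.H952.F4.cr
  have h2 : tf (sh (x + y) - sh x - sh y) z = tf (sh (x + y)) z - tf (sh x) z - tf (sh y) z := by
    rw [sub_eq_add_neg, sub_eq_add_neg, tf_add_left, tf_add_left, ← neg_one_smul F (sh x), ← neg_one_smul F (sh y),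
      tf_smul_left, tf_smul_left]
    ring
  rw [h2, h1]
  ring

theorem mem_kr_tri {v z : I27 → F} : z ∈ kr v ↔ ∀ y, tri v z y = 0 := by
  rw [mem_kr]
  constructor
  · intro h y
    rw [tri_eq_tf, h]
    have h1 := tf_smul_left (0 : F) (0 : I27 → F) y
    rwa [zero_smul, zero_mul] at h1
  · intro h
    exact tf_nondeg fun y => by rw [← tri_eq_tf, h]

theorem kr_act {g : GL I27 F} (hg : g ∈ Zgrp F) (v : I27 → F) : kr (act g v) = mp g (kr v) := by
  ext z
  rw [mem_mp, mem_kr_tri, mem_kr_tri]
  constructor
  · intro h y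
    have h1 := tri_act' hg v (act g⁻¹ z) y
    rw [act_act_inv] at h1
    rw [← h1, h]
  · intro h y
    have h1 := tri_act' hg v (act g⁻¹ z) (act g⁻¹ y)
    rw [act_act_inv, act_act_inv] at h1
    rw [h1, h]

theorem finrank_kr_act {g : GL I27 F} (hg : g ∈ Zgrp F) (v : I27 → F) :
    finrank F (kr (act g v)) = finrank F (kr v) := by
  rw [kr_act hg, finrank_mp]

/-! ### dimensions -/

/-- upper bound -/
theorem finrank_le_of {W : Submodule F (I27 → F)} (L : List I27)
    (h : ∀ z ∈ W, (∀ a ∈ L, z a = 0) → z = 0) : finrank F W ≤ L.length := by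
  by_contra hcon
  obtain ⟨x, hx, hx0, hxL⟩ := exists_reduced W L (by omega)
  exact hx0 (h x hx hxL)

/-- lower bound -/
theorem le_finrank_of {W : Submodule F (I27 → F)} {n : ℕ} (f : (I27 → F) →ₗ[F] (Fin n → F))
    (h : ∀ z, f z = 0 → z ∈ W) : 27 - n ≤ finrank F W := by
  have h1 := LinearMap.finrank_range_add_finrank_ker f
  have h2 : finrank F (LinearMap.range f) ≤ n := by
    refine (Submodule.finrank_le _).trans ?_
    rw [finrank_fin_fun]
  have h3 : finrank F (LinearMap.ker f) ≤ finrank F W :=
    Submodule.finrank_mono fun z hz => h z (LinearMap.mem_ker.1 hz)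
  have h4 : finrank F (I27 → F) = 27 := by
    rw [finrank_fintype_fun_eq_card]
    rfl
  omega

/-- the coordinates of a list -/
def coordL (F : Type u) [Field F] (L : List I27) : (I27 → F) →ₗ[F] (Fin L.length → F) :=
  LinearMap.pi fun i => LinearMap.proj (L.get i)

theorem coordL_eq_zero {L : List I27} {z : I27 → F} (h : coordL F L z = 0) : ∀ a ∈ L, z a = 0 := by
  intro a ha
  obtain ⟨i, rfl⟩ := List.mem_iff_get.1 ha
  exact congrFun h i

/-! ### combinatorics of the weights -/

theorem th_of_nc {l a b : I27} (h1 : nc l a = true) (h2 : nc l b = true) (h3 : nc a b = true) : th a b = l := by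
  have h := forall_wts (p := fun l => wts.all fun a => !(nc l a) || wts.all fun b => !(nc l b) || !(nc a b) ||
    (th a b == l)) (by decide +kernel) l
  have h' := forall_wts h a
  rw [h1, Bool.not_true, Bool.false_or] at h'
  have h'' := forall_wts h' b
  simp only [h2, h3, Bool.not_true, Bool.false_or, beq_iff_eq] at h''
  exact h''

theorem eq_th_of_nc {l m a : I27} (h1 : nc l m = true) (h2 : nc l a = true) (h3 : nc m a = true) : a = th l m := by
  have h := th_of_nc h2 h1 (((th_facts m a).1 h3).1)
  -- `th a m = l`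
  obtain ⟨-, -, h5, h6, -⟩ := (th_facts m a).1 h3
  rw [h] at h6
  rw [← h6] at h5
  rw [((th_facts m l).1 ((th_facts l m).1 h1).1).2.2.2.1]
  exact h5.symm

theorem length_nc (l : I27) : (wts.filter fun a => nc l a).length = 10 ∧ (wts.filter fun a => !(nc l a)).length = 17 := by
  have h := forall_wts (p := fun l => ((wts.filter fun a => nc l a).length == 10) &&
    ((wts.filter fun a => !(nc l a)).length == 17)) (by decide +kernel) l
  simpa using h

theorem length_gray {l m : I27} (h : nc l m = true) :
    (wts.filter fun a => !(nc l a) && !(nc m a)).length = 8 ∧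
      (wts.filter fun a => (nc l a || nc m a) && !(a == l) && !(a == m)).length = 17 := by
  have h' := forall_wts (forall_wts (p := fun l => wts.all fun m => !(nc l m) ||
    (((wts.filter fun a => !(nc l a) && !(nc m a)).length == 8) &&
      ((wts.filter fun a => (nc l a || nc m a) && !(a == l) && !(a == m)).length == 17))) (by decide +kernel) l) m
  rw [h, Bool.not_true, Bool.false_or, Bool.and_eq_true, beq_iff_eq, beq_iff_eq] at h'
  exact h'

/-! ### reduction -/

/-- after an element of the group, a non-zero vector is supported on `l` and the weights non-collinear with `l` -/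
theorem exists_clear {v : I27 → F} (hv : v ≠ 0) : ∃ g ∈ Zgrp F, ∃ l : I27, act g v l ≠ 0 ∧
    ∀ b, ip l b = 1 → act g v b = 0 := by
  obtain ⟨l, hl⟩ : ∃ l, v l ≠ 0 := by
    by_contra hcon
    push Not at hcon
    exact hv (funext hcon)
  obtain ⟨h, hh, h1, h2, -⟩ := clear (Zgrp F) l v hl (fun r hr q _ _ _ t => zG_mem hr t)
    (wts.filter fun b => ip l b == 1) (fun b hb => by simpa using (List.mem_filter.1 hb).2)
  refine ⟨h, hh, l, by rw [h1]; exact hl, fun b hb => h2 b ?_⟩
  exact List.mem_filter.2 ⟨mem_wts b, by simpa using hb⟩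

/-- the value of `tri v z (e c)` for `v` supported on `l` and the weights non-collinear with `l`, `z` on the latter -/
theorem tri_supp {l : I27} {v z : I27 → F} (hv : ∀ b, ip l b = 1 → v b = 0)
    (hz : ∀ b, nc l b = false → z b = 0) {b : I27} (hb : nc l b = true) :
    tri v z (e F (th l b)) = ((sg l b : ℤ) : F) * (v l * z b) := by
  rw [tri_formula, Finset.sum_eq_single l, Finset.sum_eq_single b]
  · rw [if_pos hb, e_self, mul_one]
  · intro c _ hc
    split_ifs with h1
    · rw [e_ne, mul_zero, mul_zero]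
      intro h2
      apply hc
      have h3 := ((th_facts l c).1 h1).2.2.1
      rw [h2, ((th_facts l b).1 hb).2.2.1] at h3
      exact h3.symm
    · rfl
  · intro h; exact absurd (Finset.mem_univ _) h
  · intro a _ ha
    refine Finset.sum_eq_zero fun c _ => ?_
    split_ifs with h1
    · by_cases h2 : nc l c = true
      · rcases ip_cases l a with h3 | h3 | h3
        · exact absurd h3.2.symm ha
        · rw [hv a h3.1]; ring
        · have h4 := th_of_nc h3.2.2 h2 h1
          rw [h4, e_ne, mul_zero, mul_zero]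
          intro h5
          have h6 := ((th_facts l b).1 hb).2.1
          have h7 := (th_facts l (th l b)).2 h6
          exact h7 h5
      · rw [hz c (by simpa using h2)]; ring
    · rfl
  · intro h; exact absurd (Finset.mem_univ _) h

theorem finrank_kr_le_of {l : I27} {v : I27 → F} (hl : v l ≠ 0) (hv : ∀ b, ip l b = 1 → v b = 0) :
    finrank F (kr v) ≤ 17 := by
  rw [← (length_nc l).2]
  refine finrank_le_of _ fun z hz h => ?_
  have hz0 : ∀ b, nc l b = false → z b = 0 := fun b hb => h b (List.mem_filter.2 ⟨mem_wts b, by rw [hb]; rfl⟩)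
  funext b
  by_cases hb : nc l b = true
  · have h1 := mem_kr_tri.1 hz (e F (th l b))
    rw [tri_supp hv hz0 hb] at h1
    exact (mul_eq_zero.1 ((mul_eq_zero.1 h1).resolve_left (sg_ne_zero hb))).resolve_left hl
  · exact hz0 b (by simpa using hb)

/-- **(G1)** -/
theorem finrank_kr_le {v : I27 → F} (hv : v ≠ 0) : finrank F (kr v) ≤ 17 := by
  obtain ⟨g, hg, l, hl, h⟩ := exists_clear hv
  rw [← finrank_kr_act hg]
  exact finrank_kr_le_of hl h

theorem kr_smul {c : F} (hc : c ≠ 0) (v : I27 → F) : kr (c • v) = kr v := by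
  ext z
  rw [mem_kr, mem_kr, cr_smul_left, smul_eq_zero]
  exact ⟨fun h => h.resolve_left hc, Or.inr⟩

theorem exists_eliminate {v : I27 → F} (hv : v ≠ 0) (hs : sh v = 0) : ∃ g ∈ Zgrp F, ∃ (l : I27) (c : F), c ≠ 0 ∧
    act g v = c • e F l := by
  obtain ⟨l, hl⟩ : ∃ l, v l ≠ 0 := by
    by_contra hcon
    push Not at hcon
    exact hv (funext hcon)
  obtain ⟨h, hh, h1⟩ := eliminate' (Zgrp F) le_rfl l ((singular_iff v).2 hs) hl (fun r hr q _ _ _ t => zG_mem hr t)
  exact ⟨h, hh, l, _, hl, h1⟩

theorem tri_e_left (a : I27) (z : I27 → F) (c : I27) :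
    tri (e F a) z (e F c) = if nc a c = true then ((sg a c : ℤ) : F) * z (th a c) else 0 := by
  rw [tri_comm23, tri_e_e]

theorem tri_sum_right {x y : I27 → F} (h : ∀ c, tri x y (e F c) = 0) : ∀ z, tri x y z = 0 := by
  have h1 : cr x y = 0 := by
    funext a
    have h2 := h (du a)
    rw [tri_eq_tf, tf_e, du_du] at h2
    exact h2
  intro z
  rw [tri_eq_tf, h1]
  have h2 := tf_smul_left (0 : F) (0 : I27 → F) z
  rwa [zero_smul, zero_mul] at h2

theorem mem_kr_e {l : I27} {z : I27 → F} : z ∈ kr (e F l) ↔ ∀ b, nc l b = true → z b = 0 := by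
  rw [mem_kr_tri]
  constructor
  · intro h b hb
    have h1 := h (e F (th l b))
    obtain ⟨-, h2, h3, -, -⟩ := (th_facts l b).1 hb
    rw [tri_e_left, if_pos h2, h3] at h1
    exact (mul_eq_zero.1 h1).resolve_left (sg_ne_zero h2)
  · intro h
    refine tri_sum_right fun c => ?_
    rw [tri_e_left]
    split_ifs with h1
    · rw [h _ ((th_facts l c).1 h1).2.1, mul_zero]
    · rfl

/-- **(G1')** -/
theorem finrank_kr_white {v : I27 → F} (hv : v ≠ 0) (hs : sh v = 0) : finrank F (kr v) = 17 := by
  refine le_antisymm (finrank_kr_le hv) ?_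
  obtain ⟨g, hg, l, c, hc, h⟩ := exists_eliminate hv hs
  rw [← finrank_kr_act hg, h, kr_smul hc]
  have h1 := le_finrank_of (W := kr (e F l)) (coordL F (wts.filter fun a => nc l a)) fun z hz => mem_kr_e.2 fun b hb =>
    coordL_eq_zero hz b (List.mem_filter.2 ⟨mem_wts b, hb⟩)
  rw [(length_nc l).1] at h1
  exact h1

/-! ### gray vectors -/

theorem Q_e_supp {l : I27} {y : I27 → F} (hy : ∀ b, nc l b = false → y b = 0) {c : I27} (hc : c ≠ l) :
    Q y (e F c) = 0 := by
  rw [Q_eq_L3]
  apply List.sum_eq_zero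
  intro v hv
  obtain ⟨t, ht, rfl⟩ := List.mem_map.1 hv
  have h := forall_wts (p := fun l => L3.all fun t => !(nc l t.2.1) || !(nc l t.2.2.1) || (t.2.2.2 == l))
    (by decide +kernel) l
  rw [List.all_eq_true] at h
  have h1 := h t ht
  simp only [Bool.or_eq_true, Bool.not_eq_true', beq_iff_eq] at h1
  rw [term]
  rcases h1 with (h1 | h1) | h1
  · rw [hy _ h1]; ring
  · rw [hy _ h1]; ring
  · rw [h1, e_ne (Ne.symm hc)]; ring

theorem Q_sum_right {x : I27 → F} (h : ∀ c, Q x (e F c) = 0) : Singular x := by
  rw [singular_iff]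
  funext a
  have h2 := h (du a)
  rw [Q_eq, tf_e, du_du] at h2
  exact h2

theorem tf_zero_left (z : I27 → F) : tf (0 : I27 → F) z = 0 := by
  have h2 := tf_smul_left (0 : F) (0 : I27 → F) z
  rwa [zero_smul, zero_mul] at h2

theorem cubicT_supp {l : I27} {y : I27 → F} (hy : ∀ b, nc l b = false → y b = 0) : cubicT y = 0 := by
  rw [cubicT_eq]
  apply List.sum_eq_zero
  intro v hv
  obtain ⟨t, ht, rfl⟩ := List.mem_map.1 hv
  have h := forall_wts (p := fun l => mono.all fun t => !(nc l t.2.1) || !(nc l t.2.2.1) || !(nc l t.2.2.2))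
    (by decide +kernel) l
  rw [List.all_eq_true] at h
  have h1 := h t ht
  simp only [Bool.or_eq_true, Bool.not_eq_true'] at h1
  rw [term]
  rcases h1 with (h1 | h1) | h1
  · rw [hy _ h1]; ring
  · rw [hy _ h1]; ring
  · rw [hy _ h1]; ring

theorem cubicT_e (l : I27) : cubicT (e F l) = 0 := by
  rw [cubicT_eq]
  apply List.sum_eq_zero
  intro v hv
  obtain ⟨t, ht, rfl⟩ := List.mem_map.1 hv
  have h := forall_wts (p := fun l => mono.all fun t => !(t.2.1 == l) || !(t.2.2.1 == l)) (by decide +kernel) l
  rw [List.all_eq_true] at h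
  have h1 := h t ht
  simp only [Bool.or_eq_true, Bool.not_eq_true', beq_eq_false_iff_ne] at h1
  rw [term]
  rcases h1 with h1 | h1
  · rw [e_ne h1]; ring
  · rw [e_ne h1]; ring

theorem exists_gray {v : I27 → F} (hs : sh v ≠ 0) (hN : cubicT v = 0) : ∃ g ∈ Zgrp F, ∃ (l m : I27) (c d : F),
    c ≠ 0 ∧ d ≠ 0 ∧ nc l m = true ∧ act g v = c • e F l + d • e F m := by
  have hv : v ≠ 0 := by
    rintro rfl
    apply hs
    have := sh_smul (0 : F) (0 : I27 → F)
    rwa [zero_smul, zero_pow two_ne_zero, zero_smul] at this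
  obtain ⟨g, hg, l, hl, h⟩ := exists_clear hv
  set w := act g v with hw
  have hshw : ¬ Singular w := by
    intro h1
    apply hs
    rw [← singular_iff]
    have h2 := Singular.act (inv_mem hg) h1
    rwa [hw, act_inv_act] at h2
  have hNw : cubicT w = 0 := by
    rw [← hN]
    exact E6Min.Inv.Zgrp_le F hg v
  -- `w = w_l e_l + y`
  set y : I27 → F := w - w l • e F l with hy
  have hyl : ∀ b, nc l b = false → y b = 0 := by
    intro b hb
    rw [hy, Pi.sub_apply, Pi.smul_apply, smul_eq_mul]
    rcases ip_cases l b with h3 | h3 | h3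
    · rw [← h3.2, e_self]; ring
    · rw [h b h3.1, e_ne (Ne.symm h3.2.1)]; ring
    · rw [h3.2.2] at hb; exact absurd hb (by decide)
  have hwy : w = y + w l • e F l := by rw [hy, sub_add_cancel]
  have hys : Singular y := by
    apply Q_sum_right
    intro c
    by_cases hc : c = l
    · subst hc
      have h1 := cubicT_add_smul y (e F c) (w c)
      rw [← hwy, hNw, singular_e c y, cubicT_supp hyl, cubicT_e] at h1
      have h5 : w c * Q y (e F c) = 0 := by linear_combination -h1
      exact (mul_eq_zero.1 h5).resolve_left hl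
    · exact Q_e_supp hyl hc
  obtain ⟨m, hm⟩ : ∃ m, y m ≠ 0 := by
    by_contra hcon
    push Not at hcon
    apply hshw
    rw [hwy, show y = 0 from funext hcon, zero_add]
    intro z
    rw [Q_smul_left, singular_e, mul_zero]
  have hlm : nc l m = true := by
    by_contra h1
    exact hm (hyl m (by simpa using h1))
  obtain ⟨h', hh', h1⟩ := eliminate' (KW (Zgrp F) [l]) (fun x hx => hx.1) m hys hm (by
    intro r hr q hq hql hne t
    refine ⟨zG_mem hr t, fun x hx => act_zG_e_of_not_source hr ?_ t⟩
    rw [List.mem_singleton] at hx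
    subst hx
    intro q' hq' he
    -- `l = q'.2.1` would be a source
    have h2 := ((tab_facts hr hq).2.2.2 q' hq').2.2.2 x
    have h3 := (tab_facts hr hq').2.1
    rw [he] at h3
    rw [he, ip_self, hql, h3] at h2
    have h4 : nc x q.2.2 = true := by
      by_contra h5
      exact hne (hyl _ (by simpa using h5))
    have h5 : ip x q.2.2 = -2 := by
      rcases ip_cases x q.2.2 with h6 | h6 | h6
      · exact absurd h6.2 ((th_facts _ _).2 h4)
      · rw [h6.2.2] at h4; exact absurd h4 (by decide)
      · exact h6.1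
    have h6 : ip x m = -2 := by
      rcases ip_cases x m with h7 | h7 | h7
      · exact absurd h7.2 ((th_facts _ _).2 hlm)
      · rw [h7.2.2] at hlm; exact absurd hlm (by decide)
      · exact h7.1
    rw [h5, h6] at h2
    omega)
  refine ⟨h' * g, mul_mem hh'.1 hg, l, m, w l, y m, hl, hm, hlm, ?_⟩
  rw [act_mul, ← hw, hwy, act_add, act_smul, h1, hh'.2 l List.mem_cons_self]
  rw [add_comm, show (y + w l • e F l) l = w l from by rw [← hwy]]

/-- **(G1'')** -/
theorem finrank_kr_gray {v : I27 → F} (hs : sh v ≠ 0) (hN : cubicT v = 0) : finrank F (kr v) = 9 := by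
  obtain ⟨g, hg, l, m, c, d, hc, hd, hlm, h⟩ := exists_gray hs hN
  rw [← finrank_kr_act hg, h]
  obtain ⟨hml, hlt, htt, hth, -⟩ := (th_facts l m).1 hlm
  have hmt : nc m (th l m) = true := by
    have := ((th_facts m l).1 hml).2.1
    rwa [hth] at this
  have hthm : th m (th l m) = l := by
    have := ((th_facts m l).1 hml).2.2.1
    rwa [hth] at this
  have key : ∀ z a, tri (c • e F l + d • e F m) z (e F a) =
      c * (if nc l a = true then ((sg l a : ℤ) : F) * z (th l a) else 0) +
        d * (if nc m a = true then ((sg m a : ℤ) : F) * z (th m a) else 0) := by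
    intro z a
    rw [tri_add_left, tri_smul_left, tri_smul_left, tri_e_left, tri_e_left]
  have hne : ∀ a, nc l a = true → a ≠ th l m → nc m a = false := by
    intro a h1 h2
    by_contra h3
    exact h2 (eq_th_of_nc hlm h1 (by simpa using h3))
  have hne' : ∀ a, nc m a = true → a ≠ th l m → nc l a = false := by
    intro a h1 h2
    by_contra h3
    exact h2 (eq_th_of_nc hlm (by simpa using h3) h1)
  -- the relations
  have rel : ∀ z, z ∈ kr (c • e F l + d • e F m) → (∀ b, nc l b = true → b ≠ m → z b = 0) ∧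
      (∀ b, nc m b = true → b ≠ l → z b = 0) ∧
      c * (((sg l (th l m) : ℤ) : F) * z m) + d * (((sg m (th l m) : ℤ) : F) * z l) = 0 := by
    intro z hz
    rw [mem_kr_tri] at hz
    refine ⟨?_, ?_, ?_⟩
    · intro b hb hbm
      obtain ⟨-, h2, h3, -, -⟩ := (th_facts l b).1 hb
      have h1 := hz (e F (th l b))
      rw [key, if_pos h2, h3, if_neg, mul_zero, add_zero] at h1
      · exact (mul_eq_zero.1 ((mul_eq_zero.1 h1).resolve_left hc)).resolve_left (sg_ne_zero h2)
      · rw [Bool.not_eq_true]
        refine hne _ h2 fun h4 => hbm ?_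
        have h5 := congrArg (th l) h4
        rwa [h3, htt] at h5
    · intro b hb hbl
      obtain ⟨-, h2, h3, -, -⟩ := (th_facts m b).1 hb
      have h1 := hz (e F (th m b))
      rw [key, if_pos h2, h3, if_neg, mul_zero, zero_add] at h1
      · exact (mul_eq_zero.1 ((mul_eq_zero.1 h1).resolve_left hd)).resolve_left (sg_ne_zero h2)
      · rw [Bool.not_eq_true]
        refine hne' _ h2 fun h4 => hbl ?_
        have h5 := congrArg (th m) h4
        rwa [h3, hthm] at h5
    · have h1 := hz (e F (th l m))
      rwa [key, if_pos hlt, if_pos hmt, htt, hthm] at h1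
  obtain ⟨hL8, hL17⟩ := length_gray hlm
  refine le_antisymm ?_ ?_
  · have h1 := finrank_le_of (W := kr (c • e F l + d • e F m)) (l :: wts.filter fun a => !(nc l a) && !(nc m a)) ?_
    · rw [List.length_cons, hL8] at h1
      exact h1
    · intro z hz h0
      obtain ⟨r1, r2, r3⟩ := rel z hz
      have hzl : z l = 0 := h0 l List.mem_cons_self
      have hzm : z m = 0 := by
        rw [hzl, mul_zero, mul_zero, add_zero] at r3
        exact (mul_eq_zero.1 ((mul_eq_zero.1 r3).resolve_left hc)).resolve_left (sg_ne_zero hlt)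
      funext b
      by_cases hbm : b = m
      · rw [hbm, hzm]; rfl
      · by_cases hbl : b = l
        · rw [hbl, hzl]; rfl
        · by_cases h2 : nc l b = true
          · exact r1 b h2 hbm
          · by_cases h3 : nc m b = true
            · exact r2 b h3 hbl
            · refine h0 b (List.mem_cons_of_mem _ (List.mem_filter.2 ⟨mem_wts b, ?_⟩))
              simp [h2, h3]
  · let L := wts.filter fun a => (nc l a || nc m a) && !(a == l) && !(a == m)
    let f : (I27 → F) →ₗ[F] (Fin (L.length + 1) → F) := LinearMap.pi fun i =>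
      if hi : (i : ℕ) < L.length then LinearMap.proj (L.get ⟨i, hi⟩)
      else (c * ((sg l (th l m) : ℤ) : F)) • LinearMap.proj m + (d * ((sg m (th l m) : ℤ) : F)) • LinearMap.proj l
    have h1 := le_finrank_of (W := kr (c • e F l + d • e F m)) f ?_
    · have : L.length = 17 := hL17
      rw [this] at h1
      exact h1
    · intro z hz
      have h0 : ∀ b, (nc l b = true ∨ nc m b = true) → b ≠ l → b ≠ m → z b = 0 := by
        intro b hb hbl hbm
        have hbL : b ∈ L := List.mem_filter.2 ⟨mem_wts b, by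
          simp only [Bool.and_eq_true, Bool.or_eq_true, Bool.not_eq_true', beq_eq_false_iff_ne]
          exact ⟨⟨hb, hbl⟩, hbm⟩⟩
        obtain ⟨i, hi⟩ := List.mem_iff_get.1 hbL
        have h2 := congrFun hz ⟨i, Nat.lt_succ_of_lt i.2⟩
        have h3 : f z ⟨i, Nat.lt_succ_of_lt i.2⟩ = z (L.get i) := by
          show (if hi : (i : ℕ) < L.length then LinearMap.proj (L.get ⟨i, hi⟩)
            else (c * ((sg l (th l m) : ℤ) : F)) • LinearMap.proj m +
              (d * ((sg m (th l m) : ℤ) : F)) • LinearMap.proj l : (I27 → F) →ₗ[F] F) z = _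
          rw [dif_pos i.2]
          rfl
        rw [h3, hi] at h2
        exact h2
      have h1 : c * (((sg l (th l m) : ℤ) : F) * z m) + d * (((sg m (th l m) : ℤ) : F) * z l) = 0 := by
        have h2 := congrFun hz ⟨L.length, Nat.lt_succ_self _⟩
        have h3 : f z ⟨L.length, Nat.lt_succ_self _⟩ =
            (c * ((sg l (th l m) : ℤ) : F)) * z m + (d * ((sg m (th l m) : ℤ) : F)) * z l := by
          show (if hi : L.length < L.length then LinearMap.proj (L.get ⟨L.length, hi⟩)
            else (c * ((sg l (th l m) : ℤ) : F)) • LinearMap.proj m +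
              (d * ((sg m (th l m) : ℤ) : F)) • LinearMap.proj l : (I27 → F) →ₗ[F] F) z = _
          rw [dif_neg (lt_irrefl _)]
          rfl
        rw [h3] at h2
        have h4 : (0 : Fin (L.length + 1) → F) ⟨L.length, Nat.lt_succ_self _⟩ = 0 := rfl
        rw [h4] at h2
        linear_combination h2
      rw [mem_kr_tri]
      refine tri_sum_right fun a => ?_
      rw [key]
      by_cases ha : a = th l m
      · rw [ha, if_pos hlt, if_pos hmt, htt, hthm]
        exact h1
      · by_cases h2 : nc l a = true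
        · rw [if_pos h2, if_neg (by rw [hne a h2 ha]; decide), mul_zero, add_zero]
          obtain ⟨-, h3, h4, -, -⟩ := (th_facts l a).1 h2
          rw [h0 (th l a) (Or.inl h3) (Ne.symm ((th_facts _ _).2 h3)) ?_, mul_zero, mul_zero]
          intro h5
          apply ha
          rw [← h5, h4]
        · rw [if_neg h2, mul_zero, zero_add]
          by_cases h3 : nc m a = true
          · rw [if_pos h3]
            obtain ⟨-, h4, h5, -, -⟩ := (th_facts m a).1 h3
            rw [h0 (th m a) (Or.inr h4) ?_ (Ne.symm ((th_facts _ _).2 h4)), mul_zero, mul_zero]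
            intro h6
            apply h2
            have h7 := congrArg (th m) h6
            rw [h5] at h7
            rw [h7, hth]
            exact hlt
          · rw [if_neg h3, mul_zero]

end Cfsg.Agent.R2.GEO
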