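import Cfsg.Agent.R2.GEO.Rank
import Cfsg.Agent.H203.E6.Strong
import Cfsg.Agent.H65.E6Root

/-!
# Totally singular subspaces of dimension 4 and 5, over any field (R2/GEO, helper17)

Everything in terms of matrices; see `Main.lean` for the statements to use.
-/

set_option autoImplicit false

namespace Cfsg.Agent.R2.GEO

open Cfsg.Lie Module
open Cfsg.Agent.ChevalleyStructure Cfsg.Agent.ChevalleyStructure.E6Form.Cubic
  Cfsg.Agent.ChevalleyStructure.E6Form.Table Cfsg.Agent.ChevalleyStructure.E6Form.Elim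
open Cfsg.Agent.ChevalleyStructure.E6Min.Basic (Zgrp zM zU)
open Cfsg.Agent.H203.E6
open Cfsg.Agent.H952.F4 (sh cr tf)
open Cfsg.Agent.H952.F4.Jord

universe u

variable {F : Type u} [Field F]

/-- the first four weights of `T6` -/
def L4 : List I27 := [(0, 2, 0), (0, 2, 1), (0, 2, 2), (2, 0, 1)]

/-- a maximal totally singular set of five weights -/
def L5 : List I27 := [(0, 2, 0), (0, 2, 1), (0, 2, 2), (2, 0, 1), (2, 0, 0)]

/-- the vectors supported on `L` -/
def sup (F : Type u) [Field F] (L : List I27) : Submodule F (I27 → F) where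
  carrier := {x | ∀ a, a ∉ L → x a = 0}
  add_mem' {x y} hx hy a ha := by rw [Pi.add_apply, hx a ha, hy a ha, add_zero]
  zero_mem' a _ := rfl
  smul_mem' c x hx a ha := by rw [Pi.smul_apply, hx a ha, smul_zero]

theorem mem_sup {L : List I27} {x : I27 → F} : x ∈ sup F L ↔ ∀ a, a ∉ L → x a = 0 := Iff.rfl

theorem W6_eq : W6 F = sup F T6 := rfl

theorem finrank_sup_le (L : List I27) : finrank F (sup F L) ≤ L.length := by
  refine finrank_le_of L fun z hz h => ?_
  funext a
  by_cases ha : a ∈ L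
  · exact h a ha
  · exact hz a ha

theorem le_finrank_sup (L : List I27) : 27 - (wts.filter fun a => !(L.contains a)).length ≤ finrank F (sup F L) :=
  le_finrank_of (coordL F (wts.filter fun a => !(L.contains a))) fun z hz a ha =>
    coordL_eq_zero hz a (List.mem_filter.2 ⟨mem_wts a, by simpa using ha⟩)

theorem finrank_L4 : finrank F (sup F L4) = 4 := by
  refine le_antisymm (finrank_sup_le L4) ?_
  have h := le_finrank_sup (F := F) L4
  have h1 : (wts.filter fun a => !(L4.contains a)).length = 23 := by decide +kernel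
  rw [h1] at h
  exact h

theorem finrank_L5 : finrank F (sup F L5) = 5 := by
  refine le_antisymm (finrank_sup_le L5) ?_
  have h := le_finrank_sup (F := F) L5
  have h1 : (wts.filter fun a => !(L5.contains a)).length = 22 := by decide +kernel
  rw [h1] at h
  exact h

theorem finrank_W6 : finrank F (W6 F) = 6 := by
  rw [W6_eq]
  refine le_antisymm (finrank_sup_le T6) ?_
  have h := le_finrank_sup (F := F) T6
  have h1 : (wts.filter fun a => !(T6.contains a)).length = 21 := by decide +kernel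
  rw [h1] at h
  exact h

/-- a vector is the combination of its coordinates -/
theorem sup_le {L : List I27} {W : Submodule F (I27 → F)} (h : ∀ a ∈ L, e F a ∈ W) : sup F L ≤ W := by
  intro x hx
  have h1 : x = ∑ a, x a • e F a := by
    funext b
    rw [Finset.sum_apply, Finset.sum_eq_single b]
    · rw [Pi.smul_apply, e_self, smul_eq_mul, mul_one]
    · intro a _ ha
      rw [Pi.smul_apply, e_ne (Ne.symm ha), smul_zero]
    · intro h; exact absurd (Finset.mem_univ _) h
  rw [h1]
  refine W.sum_mem fun a _ => ?_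
  by_cases ha : a ∈ L
  · exact W.smul_mem _ (h a ha)
  · rw [hx a ha, zero_smul]
    exact W.zero_mem

theorem exists_four {W : Submodule F (I27 → F)} (hW : TS W) (h4 : 4 ≤ finrank F W) :
    ∃ g ∈ Zgrp F, ∀ a ∈ L4, e F a ∈ mp g W := by
  obtain ⟨g1, hg1, m1⟩ := step checks.1 hW (by simp) (by simp; omega)
  have hW1 := hW.mp hg1.1
  have f1 : finrank F (mp g1 W) = finrank F W := finrank_mp _ _
  obtain ⟨g2, hg2, m2⟩ := step checks.2.1 hW1 (by simpa using m1) (by rw [f1]; simp; omega)
  have hW2 := hW1.mp hg2.1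
  have f2 : finrank F (mp g2 (mp g1 W)) = finrank F W := by rw [finrank_mp, f1]
  have n1 : e F (0, 2, 0) ∈ mp g2 (mp g1 W) := by
    have := act_mem_mp (g := g2) m1
    rwa [hg2.2 _ (by simp)] at this
  obtain ⟨g3, hg3, m3⟩ := step checks.2.2.1 hW2 (by
    intro w hw
    simp only [List.mem_cons, List.not_mem_nil, or_false] at hw
    rcases hw with rfl | rfl
    · exact m2
    · exact n1) (by rw [f2]; simp; omega)
  have hW3 := hW2.mp hg3.1
  have f3 : finrank F (mp g3 (mp g2 (mp g1 W))) = finrank F W := by rw [finrank_mp, f2]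
  have k1 : e F (0, 2, 0) ∈ mp g3 (mp g2 (mp g1 W)) := by
    have := act_mem_mp (g := g3) n1
    rwa [hg3.2 _ (by simp)] at this
  have k2 : e F (0, 2, 1) ∈ mp g3 (mp g2 (mp g1 W)) := by
    have := act_mem_mp (g := g3) m2
    rwa [hg3.2 _ (by simp)] at this
  obtain ⟨g4, hg4, m4⟩ := step checks.2.2.2 hW3 (by
    intro w hw
    simp only [List.mem_cons, List.not_mem_nil, or_false] at hw
    rcases hw with rfl | rfl | rfl
    · exact m3
    · exact k2
    · exact k1) (by rw [f3]; simp; omega)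
  have l1 : e F (0, 2, 0) ∈ mp g4 (mp g3 (mp g2 (mp g1 W))) := by
    have := act_mem_mp (g := g4) k1
    rwa [hg4.2 _ (by simp)] at this
  have l2 : e F (0, 2, 1) ∈ mp g4 (mp g3 (mp g2 (mp g1 W))) := by
    have := act_mem_mp (g := g4) k2
    rwa [hg4.2 _ (by simp)] at this
  have l3 : e F (0, 2, 2) ∈ mp g4 (mp g3 (mp g2 (mp g1 W))) := by
    have := act_mem_mp (g := g4) m3
    rwa [hg4.2 _ (by simp)] at this
  refine ⟨g4 * (g3 * (g2 * g1)), mul_mem hg4.1 (mul_mem hg3.1 (mul_mem hg2.1 hg1.1)), ?_⟩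
  rw [mp_mul, mp_mul, mp_mul]
  intro a ha
  simp only [L4, List.mem_cons, List.not_mem_nil, or_false] at ha
  rcases ha with rfl | rfl | rfl | rfl
  · exact l1
  · exact l2
  · exact l3
  · exact m4

/-- a totally singular subspace containing the first four basis vectors -/
theorem le_or_le {W : Submodule F (I27 → F)} (hW : TS W) (h : ∀ a ∈ L4, e F a ∈ W) : W ≤ W6 F ∨ W ≤ sup F L5 := by
  have hz : ∀ x ∈ W, ∀ a, a ∉ T6 → a ≠ (2, 0, 0) → x a = 0 := by
    intro x hx a ha hb
    rcases last_facts a ha hb with h1 | h1 | h1 | h1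
    · exact hW.apply_eq_zero (h _ (by simp [L4])) hx h1
    · exact hW.apply_eq_zero (h _ (by simp [L4])) hx h1
    · exact hW.apply_eq_zero (h _ (by simp [L4])) hx h1
    · exact hW.apply_eq_zero (h _ (by simp [L4])) hx h1
  have q1 : ∀ x ∈ W, x (2, 0, 0) * x (2, 1, 1) = 0 := by
    intro x hx
    have h1 := congrFun ((singular_iff x).1 (hW x hx)) (1, 2, 2)
    rw [sh122, hz x hx (2, 1, 0) (by decide) (by decide), hz x hx (1, 0, 2) (by decide) (by decide),
      hz x hx (1, 1, 2) (by decide) (by decide), hz x hx (1, 2, 2) (by decide) (by decide)] at h1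
    have h2 : (0 : I27 → F) (1, 2, 2) = 0 := rfl
    rw [h2] at h1
    linear_combination h1
  have q2 : ∀ x ∈ W, x (2, 0, 0) * x (2, 2, 1) = 0 := by
    intro x hx
    have h1 := congrFun ((singular_iff x).1 (hW x hx)) (1, 2, 1)
    rw [sh121, hz x hx (2, 2, 0) (by decide) (by decide), hz x hx (1, 0, 1) (by decide) (by decide),
      hz x hx (1, 1, 1) (by decide) (by decide), hz x hx (1, 2, 1) (by decide) (by decide)] at h1
    have h2 : (0 : I27 → F) (1, 2, 1) = 0 := rfl
    rw [h2] at h1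
    linear_combination -h1
  by_cases hx : ∃ x ∈ W, x (2, 0, 0) ≠ 0
  · right
    obtain ⟨x, hx, hx0⟩ := hx
    have hx1 : x (2, 1, 1) = 0 := (mul_eq_zero.1 (q1 x hx)).resolve_left hx0
    have hx2 : x (2, 2, 1) = 0 := (mul_eq_zero.1 (q2 x hx)).resolve_left hx0
    intro y hy a ha
    have h1 : y (2, 1, 1) = 0 := by
      have h2 := q1 (x + y) (W.add_mem hx hy)
      rw [Pi.add_apply, Pi.add_apply, hx1, zero_add, add_mul, q1 y hy, add_zero] at h2
      exact (mul_eq_zero.1 h2).resolve_left hx0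
    have h2 : y (2, 2, 1) = 0 := by
      have h2 := q2 (x + y) (W.add_mem hx hy)
      rw [Pi.add_apply, Pi.add_apply, hx2, zero_add, add_mul, q2 y hy, add_zero] at h2
      exact (mul_eq_zero.1 h2).resolve_left hx0
    by_cases h3 : a ∈ T6
    · have h4 : a = (2, 1, 1) ∨ a = (2, 2, 1) := by
        simp only [T6, L5, List.mem_cons, List.not_mem_nil, or_false] at h3 ha
        tauto
      rcases h4 with rfl | rfl
      · exact h1
      · exact h2
    · exact hz y hy a h3 fun h4 => ha (by rw [h4]; simp [L5])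
  · left
    push Not at hx
    intro y hy a ha
    by_cases h4 : a = (2, 0, 0)
    · rw [h4]; exact hx y hy
    · exact hz y hy a ha h4

theorem mp_mono (g : GL I27 F) {W W' : Submodule F (I27 → F)} (h : W ≤ W') : mp g W ≤ mp g W' := by
  intro x hx
  rw [mem_mp] at hx ⊢
  exact h hx

theorem mp_inv_mp (g : GL I27 F) (W : Submodule F (I27 → F)) : mp g⁻¹ (mp g W) = W := by
  rw [← mp_mul, inv_mul_cancel, mp_one]

theorem mp_mp_inv (g : GL I27 F) (W : Submodule F (I27 → F)) : mp g (mp g⁻¹ W) = W := by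
  rw [← mp_mul, mul_inv_cancel, mp_one]

/-- the hull is stable -/
theorem hull_stab {W : Submodule F (I27 → F)} {g : GL I27 F} (hg : g ∈ Zgrp F) (h : ∀ a ∈ L4, e F a ∈ mp g W)
    (hle : mp g W ≤ W6 F) {b : GL I27 F} (hb : b ∈ Zgrp F) (hbW : mp b W = W) :
    mp b (mp g⁻¹ (W6 F)) = mp g⁻¹ (W6 F) := by
  have h1 : W ≤ mp g⁻¹ (W6 F) := by
    have := mp_mono g⁻¹ hle
    rwa [mp_inv_mp] at this
  have h2 : mp g (mp b (mp g⁻¹ (W6 F))) = W6 F := by
    have h3 : ∀ a ∈ L4, e F a ∈ mp g (mp b (mp g⁻¹ (W6 F))) := by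
      intro a ha
      have h4 := h a ha
      rw [← hbW] at h4
      exact mp_mono g (mp_mono b h1) h4
    refine le_W6 (((W6_TS.mp (inv_mem hg)).mp hb).mp hg) ?_ (h3 _ (by simp [L4])) (h3 _ (by simp [L4]))
      (h3 _ (by simp [L4])) (h3 _ (by simp [L4]))
    rw [finrank_mp, finrank_mp, finrank_mp, finrank_W6]
  rw [← mp_inv_mp g (mp b (mp g⁻¹ (W6 F))), h2]

/-! ### the root element of a six-dimensional subspace -/

open Cfsg.Agent.H65.E6Root
open scoped commutatorElement

theorem range_nMat : LinearMap.range (Matrix.toLin' (nMat F 0)) = W6 F := by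
  apply le_antisymm
  · rintro _ ⟨x, rfl⟩
    rw [Matrix.toLin'_apply]
    exact nMat_mem_W6 x
  · rw [W6_eq]
    refine sup_le fun a ha => ?_
    have h := List.all_eq_true.1 (show (T6.all fun a => (tabr 0).any fun q => q.2.2 == a) = true by decide +kernel) a ha
    rw [List.any_eq_true] at h
    obtain ⟨q, hq, hqa⟩ := h
    rw [beq_iff_eq] at hqa
    obtain ⟨hs, -, -, -⟩ := tab_facts (r := 0) (by norm_num) hq
    have hs0 : (q.1 : F) ≠ 0 := by rcases hs with hs | hs <;> rw [hs] <;> simp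
    refine ⟨(q.1 : F)⁻¹ • e F q.2.1, ?_⟩
    rw [map_smul, Matrix.toLin'_apply, nMat_mulVec]
    have h1 : nv 0 (e F q.2.1) = (q.1 : F) • e F a := by
      have h2 := act_zG_e_of_source (F := F) (r := 0) (by norm_num) hq 1
      rw [act_zG, one_smul, one_mul, add_right_inj] at h2
      rw [h2, hqa]
    rw [h1, smul_smul, inv_mul_cancel₀ hs0, one_smul]

theorem range_cN (g : GL I27 F) : LinearMap.range (Matrix.toLin' (cN g)) = mp g⁻¹ (W6 F) := by
  ext x
  rw [mem_mp, inv_inv]
  constructor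
  · rintro ⟨y, rfl⟩
    rw [Matrix.toLin'_apply, cN, ← Matrix.mulVec_mulVec, ← Matrix.mulVec_mulVec]
    have h1 : act g (((g⁻¹ : GL I27 F) : Matrix I27 I27 F).mulVec ((nMat F 0).mulVec
        ((g : Matrix I27 I27 F).mulVec y))) = (nMat F 0).mulVec ((g : Matrix I27 I27 F).mulVec y) := act_act_inv g _
    rw [h1]
    exact nMat_mem_W6 _
  · intro h
    rw [← range_nMat] at h
    obtain ⟨y, hy⟩ := h
    refine ⟨act g⁻¹ y, ?_⟩
    rw [Matrix.toLin'_apply] at hy
    rw [Matrix.toLin'_apply, cN, ← Matrix.mulVec_mulVec, ← Matrix.mulVec_mulVec]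
    have h1 : (g : Matrix I27 I27 F).mulVec (act g⁻¹ y) = y := act_act_inv g y
    rw [h1, hy]
    exact act_inv_act g x

/-- a perfect group stabilising the six-space commutes with the root element -/
theorem comm_cN_of_perfect {A : Type*} [Group A] (hA : commutator A = ⊤) (ψ : A →* ↥(Zgrp F)) {g : GL I27 F}
    (hg : g ∈ Zgrp F) (hst : ∀ a, mp (ψ a : GL I27 F) (mp g⁻¹ (W6 F)) = mp g⁻¹ (W6 F)) (a : A) :
    ((ψ a : GL I27 F) : Matrix I27 I27 F) * cN g = cN g * ((ψ a : GL I27 F) : Matrix I27 I27 F) := by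
  have hstab : ∀ a, mp (g * (ψ a : GL I27 F) * g⁻¹) (W6 F) = W6 F := by
    intro a
    rw [mp_mul, mp_mul, hst, mp_mp_inv]
  have hconj : ∀ a, ∃ c : F, c ≠ 0 ∧ ((g * (ψ a : GL I27 F) * g⁻¹ : GL I27 F) : Matrix I27 I27 F) * nMat F 0 =
      c • (nMat F 0 * ((g * (ψ a : GL I27 F) * g⁻¹ : GL I27 F) : Matrix I27 I27 F)) := fun a =>
    conj_root (mul_mem (mul_mem hg (ψ a).2) (inv_mem hg)) (hstab a)
  let C : Subgroup A :=
    { carrier := {b | ((ψ b : GL I27 F) : Matrix I27 I27 F) * cN g = cN g * ((ψ b : GL I27 F) : Matrix I27 I27 F)}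
      one_mem' := by
        change ((ψ 1 : GL I27 F) : Matrix I27 I27 F) * cN g = cN g * ((ψ 1 : GL I27 F) : Matrix I27 I27 F)
        rw [map_one, Subgroup.coe_one, Units.val_one, one_mul, mul_one]
      mul_mem' := by
        intro a b ha hb
        change ((ψ (a * b) : GL I27 F) : Matrix I27 I27 F) * cN g = cN g * ((ψ (a * b) : GL I27 F) : Matrix I27 I27 F)
        rw [map_mul, Subgroup.coe_mul, Units.val_mul, mul_assoc, hb, ← mul_assoc, ha, mul_assoc]
      inv_mem' := by
        intro a ha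
        change ((ψ a⁻¹ : GL I27 F) : Matrix I27 I27 F) * cN g = cN g * ((ψ a⁻¹ : GL I27 F) : Matrix I27 I27 F)
        have ha' : ((ψ a : GL I27 F) : Matrix I27 I27 F) * cN g = cN g * ((ψ a : GL I27 F) : Matrix I27 I27 F) := ha
        rw [map_inv, Subgroup.coe_inv]
        calc (((ψ a : GL I27 F)⁻¹ : GL I27 F) : Matrix I27 I27 F) * cN g
            = (((ψ a : GL I27 F)⁻¹ : GL I27 F) : Matrix I27 I27 F) *
              (cN g * ((ψ a : GL I27 F) : Matrix I27 I27 F)) *
              (((ψ a : GL I27 F)⁻¹ : GL I27 F) : Matrix I27 I27 F) := by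
              rw [mul_assoc, mul_assoc, val_mul_inv, mul_one]
          _ = cN g * (((ψ a : GL I27 F)⁻¹ : GL I27 F) : Matrix I27 I27 F) := by
              rw [← ha', ← mul_assoc, val_inv_mul, one_mul] }
  have hle : commutator A ≤ C := by
    rw [commutator_def, Subgroup.commutator_le]
    intro a _ b _
    change ((ψ ⁅a, b⁆ : GL I27 F) : Matrix I27 I27 F) * cN g = cN g * ((ψ ⁅a, b⁆ : GL I27 F) : Matrix I27 I27 F)
    apply comm_cN
    obtain ⟨c, hc, h1⟩ := hconj a
    obtain ⟨d, hd, h2⟩ := hconj b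
    have := commutator_comm hc hd h1 h2
    have h3 : g * ((ψ ⁅a, b⁆ : ↥(Zgrp F)) : GL I27 F) * g⁻¹ =
        ⁅g * (ψ a : GL I27 F) * g⁻¹, g * (ψ b : GL I27 F) * g⁻¹⁆ := by
      rw [map_commutatorElement, commutatorElement_def, commutatorElement_def]
      simp only [Subgroup.coe_mul, Subgroup.coe_inv]
      group
    rw [h3]
    exact this
  rw [hA] at hle
  exact hle (Subgroup.mem_top a)

end Cfsg.Agent.R2.GEO
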