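import Cfsg.Agent.R2.GEO.Four

/-!
# Totally singular subspaces of dimension 4, 5, 6 stable under a perfect group: statements to use (R2/GEO, helper17)

`F` is any field, `A` a perfect group, `ψ : A →* Zgrp F`; `Pair ρ ρ'` : `(ρ, ρ')` is `(V F, V' F)` or `(V' F, V F)`.

* `Hull ρ ρ' ψ Y n n'` : `Y` is a totally singular 6-space stable under `A`; `n`, `n'` are the root element operators of
  `Y` : they commute with `A`, `n² = 0`, `range n = Y`, `tf (n x) y + tf x (n' y) = 0`;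
* `exists_hull_four` : a stable totally singular 4-space `W` lies in a `Y` with a `Hull`;
* `Hull.dualSub` : for `W ≤ Y` stable, `U = n' (W^⊥)` is a stable subspace of the other module of dimension
  `6 - dim W`, paired with `Y / W` : `n x ∈ W ↔ ∀ u ∈ U, tf x u = 0`;
* `exists_sub_four` (G3), `exists_sub_five` (G4) : stable subspaces of dimension 2 (resp. 1 or 2) of the other module;
* `fixed_of_four`, `fixed_of_five` : non-zero fixed vectors, if all homomorphisms `A →* GL (Fin 2) F` are trivial.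
-/

set_option autoImplicit false

namespace Cfsg.Agent.R2.GEO

open Cfsg.Lie Module
open Cfsg.Agent.ChevalleyStructure Cfsg.Agent.ChevalleyStructure.E6Form.Cubic
  Cfsg.Agent.ChevalleyStructure.E6Form.Table Cfsg.Agent.ChevalleyStructure.E6Form.Elim
open Cfsg.Agent.ChevalleyStructure.E6Min.Basic (Zgrp zM zU)
open Cfsg.Agent.H203.E6
open Cfsg.Agent.H952.F4 (sh cr tf)
open Cfsg.Agent.H952.F4.Jord
open Cfsg.Agent.H163.E6 (V V' V_apply V'_apply)
open Cfsg.Agent.H163.E6.Act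
open Cfsg.Agent.H184.GraphE6 (gU PM PM_sq PM_transpose)
open Cfsg.Agent.H65.E6Root (cN)
open scoped Matrix

universe u v

variable {F : Type u} [Field F]

/-- the two orders of the two modules -/
def Pair (ρ ρ' : Representation F ↥(Zgrp F) (I27 → F)) : Prop := (ρ = V F ∧ ρ' = V' F) ∨ (ρ = V' F ∧ ρ' = V F)

theorem Pair.swap {ρ ρ' : Representation F ↥(Zgrp F) (I27 → F)} (h : Pair ρ ρ') : Pair ρ' ρ := by
  rcases h with h | h
  · exact Or.inr ⟨h.2, h.1⟩
  · exact Or.inl ⟨h.2, h.1⟩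

/-- `gz` as a homomorphism -/
noncomputable def gzHom (F : Type u) [Field F] : ↥(Zgrp F) →* ↥(Zgrp F) := MonoidHom.mk' gz gz_mul

theorem gzHom_apply (g : ↥(Zgrp F)) : gzHom F g = gz g := rfl

/-- the action with the roles of the modules exchanged -/
theorem Pair.cases {ρ ρ' : Representation F ↥(Zgrp F) (I27 → F)} (h : Pair ρ ρ') {A : Type v} [Group A]
    (ψ : A →* ↥(Zgrp F)) : ∃ ψ' : A →* ↥(Zgrp F), (∀ a, ρ (ψ a) = V F (ψ' a)) ∧ ∀ a, ρ' (ψ a) = V' F (ψ' a) := by
  rcases h with ⟨rfl, rfl⟩ | ⟨rfl, rfl⟩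
  · exact ⟨ψ, fun _ => rfl, fun _ => rfl⟩
  · exact ⟨(gzHom F).comp ψ, fun a => (V_gz (ψ a)).symm, fun a => (V'_gz (ψ a)).symm⟩

theorem V_eq_act (g : ↥(Zgrp F)) (x : I27 → F) : V F g x = act (g : GL I27 F) x := rfl

/-- the root operators of a totally singular six-space -/
structure Hull (ρ ρ' : Representation F ↥(Zgrp F) (I27 → F)) {A : Type v} [Group A] (ψ : A →* ↥(Zgrp F))
    (Y : Submodule F (I27 → F)) (n n' : (I27 → F) →ₗ[F] (I27 → F)) : Prop where
  dim : finrank F Y = 6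
  ts : ∀ y ∈ Y, sh y = 0
  stab : ∀ a, ∀ y ∈ Y, ρ (ψ a) y ∈ Y
  comm : ∀ a x, ρ (ψ a) (n x) = n (ρ (ψ a) x)
  comm' : ∀ a x, ρ' (ψ a) (n' x) = n' (ρ' (ψ a) x)
  sq : ∀ x, n (n x) = 0
  range : LinearMap.range n = Y
  adj : ∀ x y, tf (n x) y + tf x (n' y) = 0
  root : ∀ t : F, ∃ z : ↥(Zgrp F), (∀ x, ρ z x = x + t • n x) ∧ ∀ x, ρ' z x = x + t • n' x

theorem mp_eq_of_stab {W : Submodule F (I27 → F)} {g : GL I27 F} (h1 : ∀ w ∈ W, act g w ∈ W)
    (h2 : ∀ w ∈ W, act g⁻¹ w ∈ W) : mp g W = W := by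
  ext x
  rw [mem_mp]
  constructor
  · intro h
    have := h1 _ h
    rwa [act_act_inv] at this
  · intro h
    exact h2 _ h

theorem gU_val (g : ↥(Zgrp F)) : ((gU (g : GL I27 F) : GL I27 F) : Matrix I27 I27 F) =
    PM F * (((g : GL I27 F)⁻¹ : GL I27 F) : Matrix I27 I27 F)ᵀ * PM F := coe_gU _

theorem hull_of {A : Type v} [Group A] (hA : commutator A = ⊤) (ψ : A →* ↥(Zgrp F)) {g : GL I27 F} (hg : g ∈ Zgrp F)
    (hst : ∀ a, mp (ψ a : GL I27 F) (mp g⁻¹ (W6 F)) = mp g⁻¹ (W6 F)) :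
    Hull (V F) (V' F) ψ (mp g⁻¹ (W6 F)) (Matrix.toLin' (cN g)) (Matrix.toLin' (-(PM F * (cN g)ᵀ * PM F))) where
  dim := by rw [finrank_mp, finrank_W6]
  ts y hy := (singular_iff y).1 ((W6_TS.mp (inv_mem hg)) y hy)
  stab a y hy := by
    rw [V_eq_act, ← hst a]
    exact act_mem_mp hy
  comm a x := by
    rw [V_apply, V_apply, Matrix.toLin'_apply, Matrix.toLin'_apply, Matrix.mulVec_mulVec, Matrix.mulVec_mulVec,
      comm_cN_of_perfect hA ψ hg hst]
  comm' a x := by
    rw [V'_apply, V'_apply, Matrix.toLin'_apply, Matrix.toLin'_apply, Matrix.mulVec_mulVec, Matrix.mulVec_mulVec,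
      gU_val]
    have h1 : (((ψ a : GL I27 F)⁻¹ : GL I27 F) : Matrix I27 I27 F) * cN g =
        cN g * (((ψ a : GL I27 F)⁻¹ : GL I27 F) : Matrix I27 I27 F) := by
      have h2 := comm_cN_of_perfect hA ψ hg hst a⁻¹
      rwa [map_inv, Subgroup.coe_inv] at h2
    have h2 := congrArg Matrix.transpose h1
    rw [Matrix.transpose_mul, Matrix.transpose_mul] at h2
    congr 1
    rw [mul_neg, neg_mul]
    congr 1
    calc PM F * (((ψ a : GL I27 F)⁻¹ : GL I27 F) : Matrix I27 I27 F)ᵀ * PM F * (PM F * (cN g)ᵀ * PM F)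
        = PM F * (((ψ a : GL I27 F)⁻¹ : GL I27 F) : Matrix I27 I27 F)ᵀ * (PM F * PM F) * (cN g)ᵀ * PM F := by
          simp only [mul_assoc]
      _ = PM F * ((((ψ a : GL I27 F)⁻¹ : GL I27 F) : Matrix I27 I27 F)ᵀ * (cN g)ᵀ) * PM F := by
          rw [PM_sq, mul_one]; simp only [mul_assoc]
      _ = PM F * ((cN g)ᵀ * (((ψ a : GL I27 F)⁻¹ : GL I27 F) : Matrix I27 I27 F)ᵀ) * PM F := by rw [h2]
      _ = PM F * (cN g)ᵀ * (PM F * PM F) * (((ψ a : GL I27 F)⁻¹ : GL I27 F) : Matrix I27 I27 F)ᵀ * PM F := by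
          rw [PM_sq, mul_one]; simp only [mul_assoc]
      _ = _ := by simp only [mul_assoc]
  sq x := by
    rw [Matrix.toLin'_apply, Matrix.toLin'_apply, Matrix.mulVec_mulVec, (Cfsg.Agent.H65.E6Root.cN_dir hg).sq,
      Matrix.zero_mulVec]
  range := range_cN g
  adj x y := by
    rw [Matrix.toLin'_apply, Matrix.toLin'_apply, tf_eq_dot, tf_eq_dot, Matrix.mulVec_mulVec, mul_neg, ← mul_assoc,
      ← mul_assoc, PM_sq, one_mul, Matrix.neg_mulVec, dotProduct_neg, ← Matrix.mulVec_mulVec,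
      Matrix.dotProduct_mulVec x, Matrix.vecMul_transpose]
    exact add_neg_cancel _
  root t := by
    obtain ⟨z, hz, h⟩ := (Cfsg.Agent.H65.E6Root.cN_dir hg).mem t
    have hsq := (Cfsg.Agent.H65.E6Root.cN_dir hg).sq
    refine ⟨⟨z, hz⟩, fun x => ?_, fun x => ?_⟩
    · rw [V_apply, h, Matrix.add_mulVec, Matrix.one_mulVec, Matrix.smul_mulVec, Matrix.toLin'_apply]
    · have h1 : ((z⁻¹ : GL I27 F) : Matrix I27 I27 F) = 1 - t • cN g := by
        have h2 : (z : Matrix I27 I27 F) * (1 - t • cN g) = 1 := by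
          rw [h, mul_sub, mul_one, add_mul, one_mul, Matrix.smul_mul, Matrix.mul_smul, hsq, smul_zero, smul_zero,
            add_zero, add_sub_cancel_right]
        calc ((z⁻¹ : GL I27 F) : Matrix I27 I27 F) = ((z⁻¹ : GL I27 F) : Matrix I27 I27 F) * 1 := (mul_one _).symm
          _ = ((z⁻¹ : GL I27 F) : Matrix I27 I27 F) * ((z : Matrix I27 I27 F) * (1 - t • cN g)) := by
            rw [h2]
          _ = ((z⁻¹ : GL I27 F) : Matrix I27 I27 F) * (z : Matrix I27 I27 F) * (1 - t • cN g) := by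
            rw [mul_assoc]
          _ = 1 - t • cN g := by rw [← Units.val_mul, inv_mul_cancel, Units.val_one, one_mul]
      rw [V'_apply, gU_val]
      change (PM F * ((z⁻¹ : GL I27 F) : Matrix I27 I27 F)ᵀ * PM F) *ᵥ x = _
      rw [h1, Matrix.transpose_sub, Matrix.transpose_one, Matrix.transpose_smul, mul_sub, mul_one, sub_mul, PM_sq,
        Matrix.sub_mulVec, Matrix.one_mulVec, Matrix.toLin'_apply, Matrix.neg_mulVec, smul_neg, ← sub_eq_add_neg,
        Matrix.mul_smul, Matrix.smul_mul, Matrix.smul_mulVec]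

theorem stab_mp {A : Type v} [Group A] (ψ : A →* ↥(Zgrp F)) {W : Submodule F (I27 → F)}
    (hst : ∀ a, ∀ w ∈ W, V F (ψ a) w ∈ W) (a : A) : mp (ψ a : GL I27 F) W = W := by
  refine mp_eq_of_stab (fun w hw => hst a w hw) fun w hw => ?_
  have h := hst a⁻¹ w hw
  rwa [map_inv] at h

theorem finrank_eq_four {W : Submodule F (I27 → F)} (h4 : finrank F W = 4) (h : ∀ a ∈ L4, e F a ∈ W) :
    W = sup F L4 :=
  (Submodule.eq_of_le_of_finrank_eq (sup_le h) (by rw [finrank_L4, h4])).symm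

/-- a stable totally singular 4-space lies in a stable totally singular 6-space -/
theorem exists_hull_four {A : Type v} [Group A] (hA : commutator A = ⊤) (ψ : A →* ↥(Zgrp F))
    {ρ ρ' : Representation F ↥(Zgrp F) (I27 → F)} (hρ : Pair ρ ρ') {W : Submodule F (I27 → F)}
    (hst : ∀ a, ∀ w ∈ W, ρ (ψ a) w ∈ W) (h4 : finrank F W = 4) (hW : ∀ w ∈ W, sh w = 0) :
    ∃ Y n n', W ≤ Y ∧ Hull ρ ρ' ψ Y n n' := by
  obtain ⟨ψ', h1, h2⟩ := hρ.cases ψ
  have hTS : TS W := fun w hw => (singular_iff w).2 (hW w hw)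
  have hst' : ∀ a, ∀ w ∈ W, V F (ψ' a) w ∈ W := fun a w hw => by rw [← h1]; exact hst a w hw
  obtain ⟨g, hg, he⟩ := exists_four hTS (by rw [h4])
  have hle : mp g W ≤ W6 F := by
    rw [finrank_eq_four (by rw [finrank_mp, h4]) he, W6_eq]
    intro x hx a ha
    exact hx a fun h => ha (by
      simp only [L4, T6, List.mem_cons, List.not_mem_nil, or_false] at h ⊢
      tauto)
  have hH := hull_of hA ψ' hg fun a => hull_stab hg he hle (ψ' a).2 (stab_mp ψ' hst' a)
  refine ⟨_, _, _, ?_, ⟨hH.dim, hH.ts, fun a => by rw [h1]; exact hH.stab a, fun a => by rw [h1]; exact hH.comm a,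
    fun a => by rw [h2]; exact hH.comm' a, hH.sq, hH.range, hH.adj, ?_⟩⟩
  · have := mp_mono g⁻¹ hle
    rwa [mp_inv_mp] at this
  · intro t
    obtain ⟨z, hz1, hz2⟩ := hH.root t
    rcases hρ with ⟨rfl, rfl⟩ | ⟨rfl, rfl⟩
    · exact ⟨z, hz1, hz2⟩
    · exact ⟨gz z, fun x => by rw [V'_gz]; exact hz1 x, fun x => by rw [V_gz]; exact hz2 x⟩

/-! ### orthogonal subspaces -/

/-- the bilinear pairing -/
noncomputable def tfB (F : Type u) [Field F] : (I27 → F) →ₗ[F] (I27 → F) →ₗ[F] F :=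
  LinearMap.mk₂ F tf tf_add_left tf_smul_left tf_add_right tf_smul_right

theorem tfB_apply (x y : I27 → F) : tfB F x y = tf x y := rfl

theorem tfB_nondeg : (tfB F).Nondegenerate := by
  refine ⟨fun x h => tf_nondeg h, fun y h => tf_nondeg fun x => by rw [tf_comm]; exact h x⟩

/-- the annihilator -/
def perp (W : Submodule F (I27 → F)) : Submodule F (I27 → F) where
  carrier := {y | ∀ w ∈ W, tf w y = 0}
  add_mem' {x y} hx hy w hw := by rw [tf_add_right, hx w hw, hy w hw, add_zero]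
  zero_mem' w _ := by rw [tf_comm]; exact tf_zero_left w
  smul_mem' c x hx w hw := by rw [tf_smul_right, hx w hw, mul_zero]

theorem mem_perp {W : Submodule F (I27 → F)} {y : I27 → F} : y ∈ perp W ↔ ∀ w ∈ W, tf w y = 0 := Iff.rfl

theorem finrank_perp (W : Submodule F (I27 → F)) : finrank F W + finrank F (perp W) = 27 := by
  have h1 : perp W = W.dualAnnihilator.comap ((tfB F).flip : (I27 → F) →ₗ[F] (Dual F (I27 → F))) := by
    ext y
    rw [mem_perp, Submodule.mem_comap, Submodule.mem_dualAnnihilator]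
    rfl
  have hinj : Function.Injective ((tfB F).flip : (I27 → F) →ₗ[F] (Dual F (I27 → F))) := by
    rw [← LinearMap.ker_eq_bot, LinearMap.ker_eq_bot']
    intro y hy
    exact tf_nondeg fun x => by rw [tf_comm]; exact LinearMap.congr_fun hy x
  have hsurj : Function.Surjective ((tfB F).flip : (I27 → F) →ₗ[F] (Dual F (I27 → F))) := by
    rw [← LinearMap.range_eq_top]
    apply Submodule.eq_top_of_finrank_eq
    rw [LinearMap.finrank_range_of_inj hinj, Subspace.dual_finrank_eq]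
  let E : (I27 → F) ≃ₗ[F] Dual F (I27 → F) := LinearEquiv.ofBijective _ ⟨hinj, hsurj⟩
  have h2 : finrank F (perp W) = finrank F (W.dualAnnihilator) := by
    rw [h1]
    have h3 : W.dualAnnihilator.comap ((tfB F).flip : (I27 → F) →ₗ[F] (Dual F (I27 → F))) =
        W.dualAnnihilator.map (E.symm : Dual F (I27 → F) →ₗ[F] (I27 → F)) := by
      ext y
      rw [Submodule.mem_comap]
      constructor
      · intro h
        exact ⟨_, h, E.symm_apply_apply y⟩
      · rintro ⟨z, hz, rfl⟩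
        have : ((tfB F).flip : (I27 → F) →ₗ[F] (Dual F (I27 → F))) (E.symm z) = z := E.apply_symm_apply z
        exact this.symm ▸ hz
    rw [h3, LinearEquiv.finrank_map_eq]
  rw [h2]
  have h4 := Subspace.finrank_add_finrank_dualAnnihilator_eq W
  rw [h4, finrank_fintype_fun_eq_card]
  rfl

theorem le_perp_perp (W : Submodule F (I27 → F)) : W ≤ perp (perp W) := fun w hw y hy => by
  rw [tf_comm]; exact hy w hw

theorem perp_perp (W : Submodule F (I27 → F)) : perp (perp W) = W := by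
  refine (Submodule.eq_of_le_of_finrank_eq (le_perp_perp W) ?_).symm
  have h1 := finrank_perp W
  have h2 := finrank_perp (perp W)
  omega

theorem perp_mono {W W' : Submodule F (I27 → F)} (h : W ≤ W') : perp W' ≤ perp W := fun _ hy w hw => hy w (h hw)

theorem perp_stab {A : Type v} [Group A] (ψ : A →* ↥(Zgrp F)) {ρ ρ' : Representation F ↥(Zgrp F) (I27 → F)}
    (hρ : Pair ρ ρ') {W : Submodule F (I27 → F)} (hst : ∀ a, ∀ w ∈ W, ρ (ψ a) w ∈ W) (a : A) {y : I27 → F}
    (hy : y ∈ perp W) : ρ' (ψ a) y ∈ perp W := by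
  intro w hw
  have h1 : ∀ (g : ↥(Zgrp F)) x y, tf (ρ g x) (ρ' g y) = tf x y := by
    intro g x y
    rcases hρ with ⟨rfl, rfl⟩ | ⟨rfl, rfl⟩
    · exact tf_act g x y
    · rw [tf_comm, tf_act, tf_comm]
  have h2 := hst a⁻¹ w hw
  have h3 := h1 (ψ a) (ρ (ψ a⁻¹) w) y
  rw [← Module.End.mul_apply, ← map_mul, ← map_mul, mul_inv_cancel, map_one, map_one, Module.End.one_apply] at h3
  rw [h3]
  exact hy _ h2

/-- **the dual of `Y / W` inside the other module** -/
theorem Hull.dualSub {A : Type v} [Group A] {ψ : A →* ↥(Zgrp F)} {ρ ρ' : Representation F ↥(Zgrp F) (I27 → F)}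
    (hρ : Pair ρ ρ') {Y : Submodule F (I27 → F)} {n n' : (I27 → F) →ₗ[F] (I27 → F)} (H : Hull ρ ρ' ψ Y n n')
    {W : Submodule F (I27 → F)} (hWY : W ≤ Y) (hst : ∀ a, ∀ w ∈ W, ρ (ψ a) w ∈ W) :
    ∃ U : Submodule F (I27 → F), finrank F W + finrank F U = 6 ∧ (∀ a, ∀ u ∈ U, ρ' (ψ a) u ∈ U) ∧
      (∀ u ∈ U, ∃ y, u = n' y) ∧ ∀ x, n x ∈ W ↔ ∀ u ∈ U, tf x u = 0 := by
  have hadj : ∀ x y, tf x (n' y) = -tf (n x) y := fun x y => by linear_combination H.adj x y
  have hker : LinearMap.ker n' = perp Y := by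
    ext y
    rw [LinearMap.mem_ker, mem_perp]
    constructor
    · intro h w hw
      rw [← H.range] at hw
      obtain ⟨x, rfl⟩ := hw
      have h1 := hadj x y
      rw [h, tf_comm, tf_zero_left] at h1
      linear_combination h1
    · intro h
      refine tf_nondeg fun x => ?_
      rw [tf_comm, hadj, h (n x) (H.range ▸ LinearMap.mem_range_self n x), neg_zero]
  refine ⟨(perp W).map n', ?_, ?_, ?_, ?_⟩
  · have h1 := finrank_perp W
    have h2 := finrank_perp Y
    rw [H.dim] at h2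
    have h3 := LinearMap.finrank_range_add_finrank_ker (n'.domRestrict (perp W))
    have h4 : LinearMap.range (n'.domRestrict (perp W)) = (perp W).map n' := by
      rw [LinearMap.range_domRestrict]
    have h5 : finrank F (LinearMap.ker (n'.domRestrict (perp W))) = finrank F (perp Y) := by
      rw [LinearMap.ker_domRestrict, hker]
      have h6 : perp Y ≤ perp W := perp_mono hWY
      exact (Submodule.comapSubtypeEquivOfLe h6).finrank_eq
    rw [h4, h5] at h3
    omega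
  · rintro a _ ⟨y, hy, rfl⟩
    exact ⟨ρ' (ψ a) y, perp_stab ψ hρ hst a hy, (H.comm' a y).symm⟩
  · rintro _ ⟨y, -, rfl⟩
    exact ⟨y, rfl⟩
  · intro x
    constructor
    · rintro h _ ⟨y, hy, rfl⟩
      rw [hadj, hy _ h, neg_zero]
    · intro h
      rw [← perp_perp W]
      intro y hy
      have h1 := h (n' y) ⟨y, hy, rfl⟩
      rw [hadj] at h1
      rw [tf_comm]
      linear_combination -h1

/-- **(G3)** -/
theorem exists_sub_four {A : Type v} [Group A] (hA : commutator A = ⊤) (ψ : A →* ↥(Zgrp F))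
    {ρ ρ' : Representation F ↥(Zgrp F) (I27 → F)} (hρ : Pair ρ ρ') {W : Submodule F (I27 → F)}
    (hst : ∀ a, ∀ w ∈ W, ρ (ψ a) w ∈ W) (h4 : finrank F W = 4) (hW : ∀ w ∈ W, sh w = 0) :
    ∃ U : Submodule F (I27 → F), finrank F U = 2 ∧ ∀ a, ∀ u ∈ U, ρ' (ψ a) u ∈ U := by
  obtain ⟨Y, n, n', hWY, H⟩ := exists_hull_four hA ψ hρ hst h4 hW
  obtain ⟨U, h1, h2, -⟩ := H.dualSub hρ hWY hst
  exact ⟨U, by omega, h2⟩

end Cfsg.Agent.R2.GEO
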